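import Cfsg.Agent.Lib.Transfer.StrongEmb

/-!
Groups in which the centralizer of every involution is an elementary abelian `2`-group.
-/

set_option autoImplicit false

namespace Cfsg.Agent.Tr

open Subgroup

variable {G : Type*} [Group G]

/-- An involution acting fixed-point-freely on a subgroup inverts it. -/
theorem conj_eq_inv_of_fixedPointFree [Finite G] {X : Subgroup G} {u : G} (hu : u * u = 1)
    (hn : u ∈ normalizer (X : Set G)) (hf : ∀ x ∈ X, Commute x u → x = 1) {x : G} (hx : x ∈ X) :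
    u * x * u⁻¹ = x⁻¹ := by
  let φ : X →* X :=
    { toFun := fun k => ⟨u * k * u⁻¹, conj_mem_of_mem_normalizer hn k.2⟩
      map_one' := by ext; simp
      map_mul' := fun x y => by ext; simp [mul_assoc] }
  have h1 : MonoidHom.FixedPointFree φ := fun g hg => Subtype.ext (hf g g.2 (by
    have : u * g * u⁻¹ = g := congrArg Subtype.val hg
    rw [mul_inv_eq_iff_eq_mul] at this
    exact this.symm))
  have h2 : Function.Involutive φ := fun g => Subtype.ext (by
    show u * (u * g * u⁻¹) * u⁻¹ = g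
    calc u * (u * g * u⁻¹) * u⁻¹ = (u * u) * g * (u * u)⁻¹ := by group
      _ = g := by rw [hu]; group)
  exact congrArg Subtype.val (congrFun (h1.coe_eq_inv_of_involutive h2) ⟨x, hx⟩)

theorem commute_of_inverted {X : Subgroup G} {u : G} (h : ∀ x ∈ X, u * x * u⁻¹ = x⁻¹) {x y : G}
    (hx : x ∈ X) (hy : y ∈ X) : Commute x y := by
  have h1 := h _ (mul_mem hx hy)
  have h2 : u * (x * y) * u⁻¹ = x⁻¹ * y⁻¹ := by rw [← h x hx, ← h y hy]; group
  rw [h2, mul_inv_rev] at h1
  exact Commute.inv_inv_iff.1 h1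

theorem mem_normalizer_inf_cj {H : Subgroup G} {u : G} (hu : u * u = 1) :
    u ∈ normalizer ((H ⊓ cj u H : Subgroup G) : Set G) := by
  rw [← cj_eq_iff, cj_inf, ← cj_mul, hu, cj_one, inf_comm]

theorem cj_eq_cj_of_mem {H : Subgroup G} {g i : G} (h : g⁻¹ * i ∈ H) : cj i H = cj g H := by
  have : i = g * (g⁻¹ * i) := by group
  rw [this, cj_mul, cj_eq_of_mem h]

/-- The hypothesis: `T` is a non-cyclic, non-normal Sylow `2`-subgroup and all centralizers of
involutions are elementary abelian. -/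
structure EC (T : Subgroup G) : Prop where
  syl : SylowIn 2 T ⊤
  nc : ¬ IsCyclic T
  nn : ¬ T.Normal
  hC : ∀ t : G, orderOf t = 2 → IsMulCommutative (centralizer ({t} : Set G)) ∧
    ∀ c ∈ centralizer ({t} : Set G), c ^ 2 = 1

namespace EC

variable [Finite G] {T : Subgroup G}

omit [Finite G] in
theorem sq_of_commute (h : EC T) {t c : G} (ht : orderOf t = 2) (hc : Commute c t) : c * c = 1 := by
  rw [← pow_two]; exact (h.hC t ht).2 c (mem_centralizer_singleton_iff.2 hc)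

omit [Finite G] in
theorem ne_bot (h : EC T) : T ≠ ⊥ := by
  rintro rfl
  exact h.nn inferInstance

theorem exists_central (h : EC T) : ∃ z ∈ T, orderOf z = 2 ∧ ∀ x ∈ T, Commute x z := by
  have := (nontrivial_iff_ne_bot T).2 h.ne_bot
  have h1 := h.syl.isPGroup.center_nontrivial
  have h2 : 2 ∣ Nat.card (center T) := by
    rcases (h.syl.isPGroup.to_subgroup (center T)).card_eq_or_dvd with h3 | h3
    · exact absurd h3 (Finite.one_lt_card).ne'
    · exact h3
  obtain ⟨z, hz, h3⟩ := exists_involution_of_even (even_iff_two_dvd.2 h2)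
  exact ⟨z, z.2, by rwa [Subgroup.orderOf_coe], fun x hx =>
    congrArg Subtype.val (mem_center_iff.1 hz ⟨x, hx⟩)⟩

theorem sq (h : EC T) {t : G} (ht : t ∈ T) : t * t = 1 := by
  obtain ⟨z, -, h2, h3⟩ := h.exists_central
  exact h.sq_of_commute h2 (h3 t ht)

theorem comm (h : EC T) {s t : G} (hs : s ∈ T) (ht : t ∈ T) : Commute s t := by
  obtain ⟨z, -, h2, h3⟩ := h.exists_central
  exact isMulCommutative_iff.1 (h.hC z h2).1 s (mem_centralizer_singleton_iff.2 (h3 s hs)) t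
    (mem_centralizer_singleton_iff.2 (h3 t ht))

theorem orderOf_eq (h : EC T) {t : G} (ht : t ∈ T) (h1 : t ≠ 1) : orderOf t = 2 :=
  orderOf_eq_two (h.sq ht) h1

theorem centralizer_eq (h : EC T) {t : G} (ht : t ∈ T) (h1 : t ≠ 1) :
    centralizer ({t} : Set G) = T :=
  h.syl.eq_of_le (isPGroup_iff_forall_mem.2 fun x hx => ⟨1, (h.hC t (h.orderOf_eq ht h1)).2 x hx⟩)
    (fun _ hx => mem_centralizer_singleton_iff.2 (h.comm hx ht)) le_top

theorem mem_of_commute (h : EC T) {t c : G} (ht : t ∈ T) (h1 : t ≠ 1) (hc : Commute c t) :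
    c ∈ T := h.centralizer_eq ht h1 ▸ mem_centralizer_singleton_iff.2 hc

omit [Finite G] in
theorem mem_of_mem_normalizer (h : EC T) {t : G} (ht : t ∈ normalizer (T : Set G))
    (h2 : orderOf t = 2) : t ∈ T :=
  h.syl.le_of_le_normalizer' (isPGroup_zpowers_of_orderOf_eq h2) le_top (zpowers_le.2 ht)
    (mem_zpowers t)

theorem se (h : EC T) : IsStronglyEmbedded (normalizer (T : Set G)) := by
  obtain ⟨z, hz, h2, -⟩ := h.exists_central
  refine isStronglyEmbedded_iff.2 ⟨fun he => h.nn (normalizer_eq_top_iff.1 he),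
    ⟨z, le_normalizer hz, h2⟩, fun t ht h3 g hg => ?_⟩
  have h4 := h.mem_of_mem_normalizer ht h3
  have h5 := h.mem_of_mem_normalizer hg (by rw [orderOf_conj, h3])
  rw [← cj_eq_iff]
  conv_lhs => rw [← h.centralizer_eq h4 (ne_one_of_orderOf_two h3), ← centralizer_singleton_conj]
  exact h.centralizer_eq h5 (ne_one_of_orderOf_two (by rw [orderOf_conj, h3]))

theorem exists_two (h : EC T) : ∃ s ∈ T, ∃ t ∈ T, s ≠ 1 ∧ t ≠ 1 ∧ s ≠ t := by
  obtain ⟨z, hz, h2, -⟩ := h.exists_central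
  by_contra hne
  push Not at hne
  refine h.nc ⟨⟨⟨z, hz⟩, fun x => ?_⟩⟩
  by_cases hx : (x : G) = 1
  · exact ⟨0, Subtype.ext (by simp [hx])⟩
  · exact ⟨1, Subtype.ext (by
      simpa using hne z hz x x.2 (ne_one_of_orderOf_two h2) hx)⟩

/-- An involution inverts every subgroup of odd order that it normalizes. -/
theorem inverts (h : EC T) {X : Subgroup G} (hX : Odd (Nat.card X)) {u : G} (hu : orderOf u = 2)
    (hn : u ∈ normalizer (X : Set G)) {x : G} (hx : x ∈ X) : u * x * u⁻¹ = x⁻¹ :=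
  conj_eq_inv_of_fixedPointFree (mul_self_of_orderOf_two hu) hn (fun _ hy hc =>
    eq_one_of_odd_of_mul_self (h.sq_of_commute hu hc) (odd_orderOf_of_odd_card hX hy)) hx

/-- The two-point stabilizer. -/
abbrev D (T : Subgroup G) (g : G) : Subgroup G :=
  normalizer (T : Set G) ⊓ cj g (normalizer (T : Set G))

variable {g : G}

theorem odd_D (h : EC T) (hg : g ∉ normalizer (T : Set G)) : Odd (Nat.card (D T g)) :=
  SE.odd_inf h.se hg

theorem inverts_D (h : EC T) {u : G} (hu : orderOf u = 2) (huH : u ∉ normalizer (T : Set G))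
    {d : G} (hd : d ∈ D T u) : u * d * u⁻¹ = d⁻¹ :=
  h.inverts (h.odd_D huH) hu (mem_normalizer_inf_cj (mul_self_of_orderOf_two hu)) hd

theorem exists_involution (h : EC T) (hg : g ∉ normalizer (T : Set G)) :
    ∃ u, orderOf u = 2 ∧ u ∉ normalizer (T : Set G) ∧ g⁻¹ * u ∈ normalizer (T : Set G) ∧
      D T u = D T g := by
  obtain ⟨u, hu, h1⟩ := SE.exists_involution_mem_coset h.se hg
  exact ⟨u, hu, fun h2 => hg (by simpa using inv_mem (mul_mem h1 (inv_mem h2))), h1,
    by rw [D, cj_eq_cj_of_mem h1]⟩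

theorem comm_D (h : EC T) (hg : g ∉ normalizer (T : Set G)) {a b : G} (ha : a ∈ D T g)
    (hb : b ∈ D T g) : Commute a b := by
  obtain ⟨u, hu, huH, -, e⟩ := h.exists_involution hg
  rw [← e] at ha hb
  exact commute_of_inverted (fun x hx => h.inverts_D hu huH hx) ha hb

theorem eq_one_of_mem_D (h : EC T) (hg : g ∉ normalizer (T : Set G)) {d : G} (hd : d ∈ D T g)
    (hT : d ∈ T) : d = 1 :=
  eq_one_of_odd_of_mul_self (h.sq hT) (odd_orderOf_of_odd_card (h.odd_D hg) hd)

theorem eq_one_of_commute (h : EC T) (hg : g ∉ normalizer (T : Set G)) {d t : G} (hd : d ∈ D T g)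
    (ht : t ∈ T) (h1 : t ≠ 1) (hc : Commute d t) : d = 1 :=
  h.eq_one_of_mem_D hg hd (h.mem_of_commute ht h1 hc)

theorem exists_conj (h : EC T) (hg : g ∉ normalizer (T : Set G)) {s t : G} (hs : s ∈ T)
    (hs1 : s ≠ 1) (ht : t ∈ T) (ht1 : t ≠ 1) : ∃ d ∈ D T g, d * s * d⁻¹ = t := by
  obtain ⟨u, hu, huH, -, e⟩ := h.exists_involution hg
  obtain ⟨d, hd, -, e2⟩ := SE.exists_conj_inverted h.se huH hu (le_normalizer hs)
    (h.orderOf_eq hs hs1) (le_normalizer ht) (h.orderOf_eq ht ht1)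
  exact ⟨d, e ▸ hd, e2⟩

theorem eq_of_conj_eq (h : EC T) (hg : g ∉ normalizer (T : Set G)) {s a b : G} (hs : s ∈ T)
    (hs1 : s ≠ 1) (ha : a ∈ D T g) (hb : b ∈ D T g) (e : a * s * a⁻¹ = b * s * b⁻¹) : a = b := by
  have := h.eq_one_of_commute hg (mul_mem (inv_mem hb) ha) hs hs1 (by
    calc b⁻¹ * a * s = b⁻¹ * (a * s * a⁻¹) * a := by group
      _ = _ := by rw [e]; group)
  exact (inv_mul_eq_one.1 this).symm

theorem exists_mul (h : EC T) (hg : g ∉ normalizer (T : Set G)) {x : G}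
    (hx : x ∈ normalizer (T : Set G)) : ∃ t ∈ T, ∃ d ∈ D T g, x = t * d := by
  obtain ⟨s, hs, -, -, hs1, -⟩ := h.exists_two
  obtain ⟨d, hd, e⟩ := h.exists_conj hg hs hs1 (conj_mem_of_mem_normalizer hx hs)
    (by simpa using hs1)
  have h1 : d⁻¹ * x ∈ T := h.mem_of_commute hs hs1 (by
    calc d⁻¹ * x * s = d⁻¹ * (x * s * x⁻¹) * x := by group
      _ = _ := by rw [← e]; group)
  exact ⟨_, conj_mem_of_mem_normalizer hd.1 h1, d, hd, by group⟩

theorem card_D (h : EC T) (hg : g ∉ normalizer (T : Set G)) :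
    Nat.card (D T g) = Nat.card T - 1 := by
  obtain ⟨s, hs, -, -, hs1, -⟩ := h.exists_two
  have h1 : Nat.card (D T g) = Nat.card {t : T // t ≠ 1} := by
    refine Nat.card_eq_of_bijective (fun d => ⟨⟨d * s * (d : G)⁻¹,
      conj_mem_of_mem_normalizer d.2.1 hs⟩, fun e => hs1 (by simpa using congrArg Subtype.val e)⟩)
      ⟨fun a b e => Subtype.ext (h.eq_of_conj_eq hg hs hs1 a.2 b.2
        (congrArg (fun x => x.1.1) e)), ?_⟩
    rintro ⟨⟨t, ht⟩, ht1⟩
    obtain ⟨d, hd, e⟩ := h.exists_conj hg hs hs1 ht (fun e => ht1 (Subtype.ext e))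
    exact ⟨⟨d, hd⟩, Subtype.ext (Subtype.ext e)⟩
  classical
  have := Fintype.ofFinite T
  rw [h1, Nat.card_eq_fintype_card, Nat.card_eq_fintype_card, Fintype.card_subtype_compl,
    Fintype.card_subtype_eq]

theorem exists_ne_one_D (h : EC T) (hg : g ∉ normalizer (T : Set G)) : ∃ d ∈ D T g, d ≠ 1 := by
  obtain ⟨s, hs, t, ht, hs1, ht1, hst⟩ := h.exists_two
  obtain ⟨d, hd, e⟩ := h.exists_conj hg hs hs1 ht ht1
  exact ⟨d, hd, fun h1 => hst (by simpa [h1] using e)⟩

theorem isComplement' (h : EC T) (hg : g ∉ normalizer (T : Set G)) :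
    IsComplement' ((D T g).subgroupOf (normalizer (T : Set G)))
      (T.subgroupOf (normalizer (T : Set G))) := by
  refine IsComplement'.symm (isComplement'_of_disjoint_and_mul_eq_univ ?_ ?_)
  · rw [disjoint_def]
    intro x hx hd
    exact Subtype.ext (h.eq_one_of_mem_D hg hd hx)
  · rw [Set.eq_univ_iff_forall]
    intro x
    obtain ⟨t, ht, d, hd, e⟩ := h.exists_mul hg x.2
    exact ⟨⟨t, le_normalizer ht⟩, ht, ⟨d, hd.1⟩, hd, Subtype.ext e.symm⟩

theorem card_normalizer (h : EC T) :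
    Nat.card (normalizer (T : Set G)) = Nat.card T * (Nat.card T - 1) := by
  obtain ⟨u, huH, -⟩ := SE.exists_not_mem h.se
  rw [← (h.isComplement' huH).card_mul_card, ← h.card_D huH,
    Nat.card_congr (subgroupOfEquivOfLe (inf_le_left : D T u ≤ _)).toEquiv,
    Nat.card_congr (subgroupOfEquivOfLe (le_normalizer : T ≤ _)).toEquiv, mul_comm]

/-- The centralizer in `H` of a nontrivial element of `D` is `D`. -/
theorem mem_D_of_commute (h : EC T) (hg : g ∉ normalizer (T : Set G)) {d x : G} (hd : d ∈ D T g)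
    (h1 : d ≠ 1) (hx : x ∈ normalizer (T : Set G)) (hc : Commute x d) : x ∈ D T g := by
  obtain ⟨t, ht, a, ha, rfl⟩ := h.exists_mul hg hx
  by_cases ht1 : t = 1
  · rwa [ht1, one_mul]
  · refine absurd (h.eq_one_of_commute hg hd ht ht1 ?_) h1
    have := hc.mul_left (h.comm_D hg ha hd).inv_left
    rw [mul_inv_cancel_right] at this
    exact this.symm

theorem D_eq_of_mem (h : EC T) (hg : g ∉ normalizer (T : Set G)) {g' : G}
    (hg' : g' ∉ normalizer (T : Set G)) {d : G} (hd : d ∈ D T g) (hd' : d ∈ D T g') (h1 : d ≠ 1) :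
    D T g = D T g' :=
  le_antisymm (fun _ hx => h.mem_D_of_commute hg' hd' h1 hx.1 (h.comm_D hg hx hd))
    (fun _ hx => h.mem_D_of_commute hg hd h1 hx.1 (h.comm_D hg' hx hd'))

/-- No element of `H` inverts `D`. -/
theorem not_inverts (h : EC T) (hg : g ∉ normalizer (T : Set G)) {x d : G}
    (hx : x ∈ normalizer (T : Set G)) (hd : d ∈ D T g) (hi : x * d * x⁻¹ = d⁻¹) : d = 1 := by
  obtain ⟨t, ht, a, ha, rfl⟩ := h.exists_mul hg hx
  have h1 : t * d * t⁻¹ = d⁻¹ := by
    rw [← hi]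
    calc t * d * t⁻¹ = t * (d * a) * (t * a)⁻¹ := by group
      _ = _ := by rw [← (h.comm_D hg ha hd).eq]; group
  have h2 : d⁻¹ * d⁻¹ ∈ T := by
    have := mul_mem ht (conj_mem_of_mem_normalizer hd.1 (inv_mem ht))
    rwa [← mul_assoc, ← mul_assoc, h1] at this
  have h3 := h.eq_one_of_mem_D hg (mul_mem (inv_mem hd) (inv_mem hd)) h2
  have := eq_one_of_odd_of_mul_self h3 (odd_orderOf_of_odd_card (h.odd_D hg) (inv_mem hd))
  simpa using this

theorem mem_of_centralizes_D (h : EC T) {u : G} (hu : orderOf u = 2)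
    (huH : u ∉ normalizer (T : Set G)) {c : G} (hc : ∀ d ∈ D T u, Commute c d) :
    c ∈ normalizer (T : Set G) := by
  by_contra hcH
  obtain ⟨d, hd, hd1⟩ := h.exists_ne_one_D huH
  obtain ⟨v, hv, hvH, h1, e⟩ := h.exists_involution hcH
  have h2 : d ∈ D T c := mem_inf.2 ⟨hd.1, mem_cj.2 (by
    rw [mul_assoc, ← (hc d hd).eq, inv_mul_cancel_left]; exact hd.1)⟩
  refine hd1 (h.not_inverts huH h1 hd ?_)
  calc c⁻¹ * v * d * (c⁻¹ * v)⁻¹ = c⁻¹ * (v * d * v⁻¹) * c := by group
    _ = d⁻¹ := by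
      rw [h.inverts_D hv hvH (e ▸ h2), mul_assoc, ← (hc d hd).inv_right.eq, inv_mul_cancel_left]

theorem mem_D_of_centralizes (h : EC T) {u : G} (hu : orderOf u = 2)
    (huH : u ∉ normalizer (T : Set G)) {c : G} (hc : ∀ d ∈ D T u, Commute c d) : c ∈ D T u := by
  obtain ⟨d, hd, hd1⟩ := h.exists_ne_one_D huH
  exact h.mem_D_of_commute huH hd hd1 (h.mem_of_centralizes_D hu huH hc) (hc d hd)

/-- A nontrivial element of `D` fixes only two points. -/
theorem coset_eq_of_mem (h : EC T) (hg : g ∉ normalizer (T : Set G)) {g' : G}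
    (hg' : g' ∉ normalizer (T : Set G)) {d : G} (hd : d ∈ D T g) (hd' : d ∈ D T g') (h1 : d ≠ 1) :
    g⁻¹ * g' ∈ normalizer (T : Set G) := by
  obtain ⟨u, hu, huH, h2, e⟩ := h.exists_involution hg
  obtain ⟨v, hv, hvH, h3, e'⟩ := h.exists_involution hg'
  have e2 : D T v = D T u := by rw [e, e', h.D_eq_of_mem hg hg' hd hd' h1]
  have h4 : u * v ∈ D T u := h.mem_D_of_centralizes hu huH fun x hx => by
    calc u * v * x = u * (v * x * v⁻¹) * u⁻¹ * (u * v) := by group
      _ = x * (u * v) := by rw [h.inverts_D hv hvH (e2 ▸ hx), h.inverts_D hu huH (inv_mem hx), inv_inv]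
  have := mul_mem (mul_mem h2 h4.1) (inv_mem h3)
  have e3 : g⁻¹ * u * (u * v) * (g'⁻¹ * v)⁻¹ = g⁻¹ * (u * u) * g' := by group
  rwa [e3, mul_self_of_orderOf_two hu, mul_one] at this

theorem normalizer_D (h : EC T) {u : G} (hu : orderOf u = 2) (huH : u ∉ normalizer (T : Set G)) :
    normalizer (D T u : Set G) = D T u ⊔ zpowers u := by
  have hu' := mul_self_of_orderOf_two hu
  refine le_antisymm (fun x hx => ?_)
    (sup_le le_normalizer (zpowers_le.2 (mem_normalizer_inf_cj hu')))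
  obtain ⟨d, hd, hd1⟩ := h.exists_ne_one_D huH
  have key : ∀ x ∈ normalizer (D T u : Set G), x ∈ normalizer (T : Set G) → x ∈ D T u := by
    intro x hx hxH
    have h1 : x * u ∉ normalizer (T : Set G) := fun h2 =>
      huH (by simpa using mul_mem (inv_mem hxH) h2)
    have h2 := h.coset_eq_of_mem huH h1 hd (mem_inf.2 ⟨hd.1, by
      rw [cj_mul, mem_cj]; exact (conj_mem_of_mem_normalizer' hx hd).2⟩) hd1
    exact mem_inf.2 ⟨hxH, mem_cj.2 (by rwa [mul_assoc])⟩
  by_cases hxH : x ∈ normalizer (T : Set G)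
  · exact mem_sup_left (key x hx hxH)
  · have h1 := h.coset_eq_of_mem huH hxH hd
      (mem_inf.2 ⟨hd.1, mem_cj.2 (conj_mem_of_mem_normalizer' hx hd).1⟩) hd1
    have h2 := key _ (mul_mem (inv_mem (mem_normalizer_inf_cj hu')) hx) h1
    have := mul_mem (mem_sup_right (S := D T u) (mem_zpowers u)) (mem_sup_left h2)
    simpa using this

/-- `T` is transitive on the cosets different from `H`. -/
theorem exists_mem_coset (h : EC T) (hg : g ∉ normalizer (T : Set G)) {g' : G}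
    (hg' : g' ∉ normalizer (T : Set G)) : ∃ t ∈ T, (t * g)⁻¹ * g' ∈ normalizer (T : Set G) := by
  obtain ⟨d', hd', hd1⟩ := h.exists_ne_one_D hg'
  obtain ⟨t₀, ht₀, d, hd, rfl⟩ := h.exists_mul hg hd'.1
  have hd2 : d ≠ 1 := by
    rintro rfl
    rw [mul_one] at hd' hd1
    exact hd1 (h.eq_one_of_mem_D hg' hd' ht₀)
  have hmem : ∀ t ∈ T, t * d * t⁻¹ * d⁻¹ ∈ T := fun t ht => by
    have := mul_mem ht (conj_mem_of_mem_normalizer hd.1 (inv_mem ht))
    rwa [← mul_assoc, ← mul_assoc] at this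
  let f : T → T := fun t => ⟨_, hmem t t.2⟩
  have hf : Function.Injective f := by
    intro a b e
    have e1 : (a : G) * d * (a : G)⁻¹ = b * d * (b : G)⁻¹ :=
      mul_right_cancel (congrArg Subtype.val e)
    by_contra hab
    refine hd2 (h.eq_one_of_commute hg hd (mul_mem (inv_mem b.2) a.2)
      (fun e2 => hab (Subtype.ext (inv_mul_eq_one.1 e2).symm)) ?_)
    calc d * ((b : G)⁻¹ * a) = (b : G)⁻¹ * (b * d * (b : G)⁻¹) * a := by group
      _ = _ := by rw [← e1]; group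
  obtain ⟨t, ht⟩ := Finite.surjective_of_injective hf ⟨t₀, ht₀⟩
  have e : (t : G) * d * (t : G)⁻¹ = t₀ * d := by
    have : (t : G) * d * (t : G)⁻¹ * d⁻¹ = t₀ := congrArg Subtype.val ht
    rw [← this]; group
  have h1 : (t : G) * g ∉ normalizer (T : Set G) := fun h2 =>
    hg (by simpa using mul_mem (inv_mem (le_normalizer t.2)) h2)
  refine ⟨t, t.2, h.coset_eq_of_mem h1 hg' (mem_inf.2 ⟨hd'.1, ?_⟩) hd' hd1⟩
  rw [← e, cj_mul, conj_mem_cj]; exact hd.2

theorem eq_of_mem_coset (h : EC T) (hg : g ∉ normalizer (T : Set G)) {s t : G} (hs : s ∈ T)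
    (ht : t ∈ T) (e : (s * g)⁻¹ * (t * g) ∈ normalizer (T : Set G)) : s = t := by
  have h1 : s⁻¹ * t ∈ T := mul_mem (inv_mem hs) ht
  have := h.eq_one_of_mem_D hg (mem_inf.2 ⟨le_normalizer h1, mem_cj.2 (by
    simpa [mul_assoc] using e)⟩) h1
  exact inv_mul_eq_one.1 this

end EC

end Cfsg.Agent.Tr
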