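import Cfsg.Agent.Lib.Transfer.ElemCent

/-!
The action on the cosets of `N(T)` for groups with elementary abelian involution centralizers.
-/

set_option autoImplicit false

namespace Cfsg.Agent.Tr

open Subgroup

variable {G : Type*} [Group G]

theorem smul_mk_eq_iff {H : Subgroup G} {d g g' : G} :
    d • (QuotientGroup.mk g : G ⧸ H) = QuotientGroup.mk g' ↔ (d * g)⁻¹ * g' ∈ H := by
  rw [MulAction.Quotient.smul_mk, smul_eq_mul, QuotientGroup.eq]

theorem smul_mk_eq_self_iff {H : Subgroup G} {d g : G} :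
    d • (QuotientGroup.mk g : G ⧸ H) = QuotientGroup.mk g ↔ d ∈ cj g H := by
  rw [smul_mk_eq_iff, mem_cj, ← inv_mem_iff]; simp [mul_assoc]

theorem mk_eq_one_iff {H : Subgroup G} {g : G} :
    (QuotientGroup.mk g : G ⧸ H) = QuotientGroup.mk 1 ↔ g ∈ H := by
  rw [QuotientGroup.eq, mul_one, inv_mem_iff]

theorem smul_mk_one_iff {H : Subgroup G} {d : G} :
    d • (QuotientGroup.mk 1 : G ⧸ H) = QuotientGroup.mk 1 ↔ d ∈ H := by
  rw [smul_mk_eq_self_iff, cj_one]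

namespace EC

variable [Finite G] {T : Subgroup G}

theorem regular (h : EC T) {x y : G ⧸ normalizer (T : Set G)} (hx : x ≠ QuotientGroup.mk 1)
    (hy : y ≠ QuotientGroup.mk 1) : ∃! t : G, t ∈ T ∧ t • x = y := by
  induction x using QuotientGroup.induction_on with | _ x => ?_
  induction y using QuotientGroup.induction_on with | _ y => ?_
  rw [Ne, mk_eq_one_iff] at hx hy
  obtain ⟨t, ht, h1⟩ := h.exists_mem_coset hx hy
  refine ⟨t, ⟨ht, smul_mk_eq_iff.2 h1⟩, fun s hs => h.eq_of_mem_coset hx hs.1 ht ?_⟩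
  have := mul_mem (smul_mk_eq_iff.1 hs.2) (inv_mem h1)
  simpa [mul_assoc] using this

theorem eq_of_fixed (h : EC T) {x y : G ⧸ normalizer (T : Set G)} (hx : x ≠ QuotientGroup.mk 1)
    (hy : y ≠ QuotientGroup.mk 1) {d : G} (hd : d ∈ normalizer (T : Set G)) (h1 : d ≠ 1)
    (hdx : d • x = x) (hdy : d • y = y) : x = y := by
  induction x using QuotientGroup.induction_on with | _ x => ?_
  induction y using QuotientGroup.induction_on with | _ y => ?_
  rw [Ne, mk_eq_one_iff] at hx hy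
  rw [smul_mk_eq_self_iff] at hdx hdy
  exact QuotientGroup.eq.2 (h.coset_eq_of_mem hx hy ⟨hd, hdx⟩ ⟨hd, hdy⟩ h1)

theorem sharp (h : EC T) {g : G} {x₁ x₂ x₃ : G ⧸ normalizer (T : Set G)} (h12 : x₁ ≠ x₂)
    (h13 : x₁ ≠ x₃) (h23 : x₂ ≠ x₃) (e1 : g • x₁ = x₁) (e2 : g • x₂ = x₂) (e3 : g • x₃ = x₃) :
    g = 1 := by
  obtain ⟨a, ha⟩ := MulAction.exists_smul_eq G x₁ (QuotientGroup.mk 1)
  by_contra hg
  have key : ∀ x : G ⧸ normalizer (T : Set G), g • x = x → (a * g * a⁻¹) • a • x = a • x := by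
    intro x hx
    rw [← mul_smul, inv_mul_cancel_right, mul_smul, hx]
  refine h23 (MulAction.injective a (h.eq_of_fixed (d := a * g * a⁻¹) ?_ ?_ ?_ (by simpa using hg)
    (key _ e2) (key _ e3)))
  · rw [← ha]; exact fun e => h12 (MulAction.injective a e).symm
  · rw [← ha]; exact fun e => h13 (MulAction.injective a e).symm
  · rw [← smul_mk_one_iff, ← ha]; exact key _ e1

theorem exists_std (h : EC T) {u s : G} (hu : u ∉ normalizer (T : Set G)) (hs : s ∈ T)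
    (hs1 : s ≠ 1) {x₁ x₂ x₃ : G ⧸ normalizer (T : Set G)} (h12 : x₁ ≠ x₂)
    (h13 : x₁ ≠ x₃) (h23 : x₂ ≠ x₃) : ∃ g : G, g • x₁ = QuotientGroup.mk 1 ∧
      g • x₂ = QuotientGroup.mk u ∧ g • x₃ = QuotientGroup.mk (s * u) := by
  obtain ⟨a, ha⟩ := MulAction.exists_smul_eq G x₁ (QuotientGroup.mk 1)
  have hu' : (QuotientGroup.mk u : G ⧸ normalizer (T : Set G)) ≠ QuotientGroup.mk 1 :=
    fun e => hu (mk_eq_one_iff.1 e)
  obtain ⟨t, ⟨ht, e1⟩, -⟩ := h.regular (x := a • x₂)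
    (by rw [← ha]; exact fun e => h12 (MulAction.injective a e).symm) hu'
  have e0 : t • a • x₁ = QuotientGroup.mk 1 := by
    rw [ha]; exact smul_mk_one_iff.2 (le_normalizer ht)
  obtain ⟨t', ⟨ht', e2⟩, -⟩ := h.regular (y := t • a • x₃) hu' (by
    rw [← e0]; exact fun e => h13 (MulAction.injective a (MulAction.injective t e)).symm)
  have ht1 : t' ≠ 1 := by
    rintro rfl
    rw [one_smul, ← e1] at e2
    exact h23 (MulAction.injective a (MulAction.injective t e2))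
  obtain ⟨d, hd, e3⟩ := h.exists_conj hu ht' ht1 hs hs1
  refine ⟨d * t * a, ?_, ?_, ?_⟩
  · rw [mul_smul, mul_smul, e0]; exact smul_mk_one_iff.2 hd.1
  · rw [mul_smul, mul_smul, e1]; exact smul_mk_eq_self_iff.2 hd.2
  · rw [mul_smul, mul_smul, ← e2, ← mul_smul, smul_mk_eq_iff, ← e3]
    have := mem_cj.1 (inv_mem hd.2)
    simpa [mul_assoc] using this

theorem triply (h : EC T) {x₁ x₂ x₃ y₁ y₂ y₃ : G ⧸ normalizer (T : Set G)} (h12 : x₁ ≠ x₂)
    (h13 : x₁ ≠ x₃) (h23 : x₂ ≠ x₃) (k12 : y₁ ≠ y₂) (k13 : y₁ ≠ y₃) (k23 : y₂ ≠ y₃) :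
    ∃ g : G, g • x₁ = y₁ ∧ g • x₂ = y₂ ∧ g • x₃ = y₃ := by
  obtain ⟨u, hu, -⟩ := SE.exists_not_mem h.se
  obtain ⟨s, hs, -, -, hs1, -⟩ := h.exists_two
  obtain ⟨a, a1, a2, a3⟩ := h.exists_std hu hs hs1 h12 h13 h23
  obtain ⟨b, b1, b2, b3⟩ := h.exists_std hu hs hs1 k12 k13 k23
  refine ⟨b⁻¹ * a, ?_, ?_, ?_⟩
  · rw [mul_smul, a1, ← b1, inv_smul_smul]
  · rw [mul_smul, a2, ← b2, inv_smul_smul]
  · rw [mul_smul, a3, ← b3, inv_smul_smul]

end EC

end Cfsg.Agent.Tr
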